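import Groth.Agent.Cyc90.DVRSetup
import Groth.Agent.Cyc90.KeyFormula
import Groth.Agent.Cyc90.MaxPts
import Groth.Agent.Cyc90.RelDimBC
import Groth.Agent.Approx60.RelDimDesc

/-! Flat families over a discrete valuation ring with equidimensional generic fibre. -/

set_option autoImplicit false
set_option backward.isDefEq.respectTransparency.types false
set_option synthInstance.maxHeartbeats 200000
set_option linter.style.haveILetI false
universe u

open CategoryTheory CategoryTheory.Limits AlgebraicGeometry TopologicalSpace IsLocalRing

namespace Groth.Agent.Cyc90.Equidim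

variable {X Y : Scheme.{u}}

lemma closure_mem_irreducibleComponents {y : Y} (hy : ∀ w, w ⤳ y → w = y) :
    closure ({y} : Set Y) ∈ irreducibleComponents Y := by
  refine ⟨isIrreducible_singleton.closure, fun T hT hle => ?_⟩
  obtain ⟨t, ht⟩ := QuasiSober.sober hT.closure isClosed_closure
  have hty : t ⤳ y := ht.specializes (subset_closure (hle (subset_closure rfl)))
  obtain rfl := hy t hty
  rw [show closure ({t} : Set Y) = closure T from ht]
  exact subset_closure

lemma eq_of_specializes_of_component {y w : Y} (hy : closure ({y} : Set Y) ∈ irreducibleComponents Y)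
    (h : w ⤳ y) : w = y := by
  have h1 : closure ({y} : Set Y) ⊆ closure {w} :=
    closure_minimal (Set.singleton_subset_iff.2 (specializes_iff_mem_closure.1 h)) isClosed_closure
  have h2 := hy.2 isIrreducible_singleton.closure h1
  exact (h.antisymm (specializes_iff_mem_closure.2 (h2 (subset_closure rfl)))).eq

/-- A flat morphism sends a maximal point to a maximal point. -/
lemma maximal_map (f : X ⟶ Y) [Flat f] {x : X} (hx : ∀ w, w ⤳ x → w = x) {w : Y} (hw : w ⤳ f x) : w = f x := by
  obtain ⟨x', hx', rfl⟩ := Flat.generalizingMap f hw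
  rw [hx x' hx']

/-- Components of the source of a flat morphism dominate components of the target. -/
theorem closure_image_component (f : X ⟶ Y) [Flat f] {C : Set X} (hC : C ∈ irreducibleComponents X) :
    closure (f '' C) ∈ irreducibleComponents Y := by
  have hCc : IsClosed C := isClosed_of_mem_irreducibleComponents C hC
  obtain ⟨x, hx⟩ := QuasiSober.sober hC.1 hCc
  have hx' : closure ({x} : Set X) = C := hx
  have hmax : ∀ w, w ⤳ x → w = x := fun w hw => eq_of_specializes_of_component (hx'.symm ▸ hC) hw
  have he : closure (f '' C) = closure {f x} := by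
    rw [← hx']
    refine Set.Subset.antisymm (closure_minimal ?_ isClosed_closure) (closure_mono ?_)
    · rintro _ ⟨w, hw, rfl⟩
      exact specializes_iff_mem_closure.1 ((specializes_iff_mem_closure.2 hw).map f.continuous)
    · exact Set.singleton_subset_iff.2 ⟨x, subset_closure rfl, rfl⟩
  rw [he]
  exact closure_mem_irreducibleComponents fun w hw => maximal_map f hmax hw

variable {R : Type u} [CommRing R] [IsDomain R] [IsDiscreteValuationRing R]

open DVR in
/-- A flat family over a discrete valuation ring whose generic fibre has pure dimension `r` has all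
fibres of pure dimension `r`. -/
theorem hasRelDim_of_flat_dvr (q : X ⟶ Spec (CommRingCat.of R)) [Flat q] [LocallyOfFiniteType q] {r : ℕ}
    (hr : ∀ z, q z = ηPt R → E4O.IsFibreMax q z → E4O.fdeg q z = r) : Cyc.HasRelDim q r := by
  intro y T hT
  obtain ⟨z', -, hmax, hd⟩ := E4O.exists_of_mem_irreducibleComponents_fiber q hT
  rw [hd]
  set w := q.fiberι y z' with hw
  suffices h : E4O.fdeg q w = r by rw [h]
  rcases eq_or R (q w) with h | h
  · exact hr w h hmax
  have hX := DVR.isSetup_δT q
  haveI := hX.1
  have hdim : ringKrullDim (X.presheaf.stalk w) = 1 := by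
    rw [ringKrullDim_stalk_eq_of_isFibreMax q w hmax, h,
      dim_one_of_delta (isSetup_spec R) (y := sPt R) (by rw [δR_s, δR_η, zero_add])]
  obtain ⟨z, hzw, hzmax⟩ := exists_maximal w
  have hqz : q z = ηPt R := ((genericPoint_spec ↥(Spec (CommRingCat.of R))).specializes trivial |> maximal_map q hzmax).symm
  have hne : z ≠ w := fun e => ηPt_ne_sPt R (by rw [← hqz, e, h])
  have hδz : DVR.δT q z = 1 + r := by
    rw [DVR.δT, hqz, δR_η, hr z hqz fun x' hx' _ => hzmax x' hx']
  have hδw : DVR.δT q w = E4O.fdeg q w := by
    rw [DVR.δT, h, δR_s, zero_add]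
  obtain ⟨c, -, hc⟩ := exists_series hX.2.2 hzw
  have h1 := delta_lt hX.2.2 hzw hne
  have h2 := Order.LTSeries.length_le_krullDim c
  rw [← ringKrullDim, hdim] at h2
  have h3 : c.length ≤ 1 := by exact_mod_cast h2
  omega

end Groth.Agent.Cyc90.Equidim
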