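import Groth.Agent.Cyc90.Equidim.FlatDVR
import Groth.Agent.Cyc90.TensorGen
import Groth.Agent.E4O.Subscheme

/-! Base changes of the closure of a point over a maximal point. -/

set_option autoImplicit false
set_option backward.isDefEq.respectTransparency.types false
set_option synthInstance.maxHeartbeats 200000
set_option linter.style.haveILetI false
universe u

open CategoryTheory CategoryTheory.Limits AlgebraicGeometry TopologicalSpace

namespace Groth.Agent.Cyc90.Equidim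

variable {X S Z T : Scheme.{u}}

/-- Over a maximal point of the base, the maximal points of the fibres of base changes of the closure
of `z` have the fibre degree of `z`. -/
theorem fdeg_snd_of_maximal (p : X ⟶ S) [LocallyOfFiniteType p] (z : X) (ι : Z ⟶ X) [IsClosedImmersion ι]
    (hZ : Set.range ι.base = closure {z}) (g : T ⟶ S) {t₀ : T}
    (ht₀ : closure ({g t₀} : Set ↥S) ∈ irreducibleComponents ↥S) (w : ↥(pullback (ι ≫ p) g))
    (hw : pullback.snd (ι ≫ p) g w = t₀) (hmax : E4O.IsFibreMax (pullback.snd (ι ≫ p) g) w) :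
    E4O.fdeg (pullback.snd (ι ≫ p) g) w = E4O.fdeg p z := by
  obtain ⟨ζ₀, hζ₀⟩ : ∃ ζ₀, ι ζ₀ = z := (hZ.symm ▸ subset_closure rfl : z ∈ Set.range ι.base)
  have hζall : ∀ ζ : Z, ζ₀ ⤳ ζ := fun ζ => by
    rw [← ι.isEmbedding.isInducing.specializes_iff, specializes_iff_mem_closure]
    exact hζ₀ ▸ hZ ▸ ⟨ζ, rfl⟩
  have e : (ι ≫ p) (pullback.fst (ι ≫ p) g w) = g t₀ := by
    rw [← hw]; exact congr($(pullback.condition (f := ι ≫ p) (g := g)) w)
  obtain ⟨m, hm, -, -, hmι⟩ := E4O.exists_fibre_map_flat (IsPullback.of_hasPullback (ι ≫ p) g) t₀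
  have hfx : E4O.IsFibreMax (ι ≫ p) (pullback.fst (ι ≫ p) g w) := by
    intro x' hx' hfx'
    obtain ⟨v, hv⟩ := E4O.exists_fiberι_eq (ι ≫ p) (hfx'.trans e)
    obtain ⟨w₁, hw₁⟩ := E4O.exists_fiberι_eq (pullback.snd (ι ≫ p) g) hw
    have hvz : v ⤳ m w₁ := by
      refine (E4O.specializes_fiberι_iff (ι ≫ p) _ _ _).1 ?_
      rw [hmι w₁, hw₁, hv]; exact hx'
    obtain ⟨v', hv', hmv⟩ := Flat.generalizingMap m hvz
    have h1 : (pullback.snd (ι ≫ p) g).fiberι t₀ v' = w :=
      hmax _ (hw₁ ▸ (E4O.specializes_fiberι_iff _ _ _ _).2 hv') (by rw [E4O.apply_fiberι, hw])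
    rw [← hv, ← hmv, hmι v', h1]
  have hζ : pullback.fst (ι ≫ p) g w = ζ₀ := by
    refine (hfx ζ₀ (hζall _) ?_).symm
    rw [e, Scheme.Hom.comp_apply, hζ₀]
    refine eq_of_specializes_of_component ht₀ ?_
    rw [← hζ₀, ← e, ← Scheme.Hom.comp_apply]
    exact (hζall _).map (ι ≫ p).continuous
  rw [fdeg_snd_eq w fun u _ h2 h3 => hmax u h3 h2, hζ, E4O.fdeg_comp_closedImmersion, hζ₀]

lemma fdeg_eq_of_dim (p : X ⟶ S) [LocallyOfFiniteType p] (z : X) {r : ℕ}
    (hr : topologicalKrullDim ↥(closure ({p.asFiber z} : Set ↥(p.fiber (p.base z)))) = r) :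
    E4O.fdeg p z = r := by
  have h := E4O.dim_closure_fiber p (p z) (p.asFiber z)
  rw [hr, Scheme.Hom.fiberι_asFiber] at h
  exact_mod_cast h.symm

end Groth.Agent.Cyc90.Equidim
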